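import Groth.Agent.EtFound.LocConst
import Groth.Agent.EtFound.CoprodSections
import Groth.Prelude.Def_EtOpen
import Groth.Prelude.Def_CohProp
import Groth.Agent.EtFound.Germ
import Groth.Agent.SGA1Q.SigmaFinite
import Groth.Prelude.Def_EtBase

/-! a constant sheaf over an etale scheme is represented by a finite disjoint union -/

universe u

open CategoryTheory CategoryTheory.Limits AlgebraicGeometry Opposite

namespace Groth.Agent.EtRepSet

set_option backward.isDefEq.respectTransparency false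
set_option backward.isDefEq.respectTransparency.types false

open EtFound

variable {X : Scheme.{u}}

/-- Sheaves of sets are sheaves for covering presieves. -/
theorem isSheafFor_of_covers.{w} (F : EtDesc.Sh X) {W : X.Etale} {ι : Type w} (Z : ι → X.Etale)
    (g : ∀ i, Z i ⟶ W) (hcov : ∀ x : W.left, ∃ (i : ι) (z : (Z i).left), (g i).left.base z = x) :
    Presieve.IsSheafFor F.obj (Presieve.ofArrows Z g) := by
  rw [Presieve.isSheafFor_iff_generate]
  refine ((isSheaf_iff_isSheaf_of_type _ _).1 F.2) _ ?_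
  refine (mem_topology_iff _).2 fun x => ?_
  obtain ⟨i, z, hz⟩ := hcov x
  exact ⟨Z i, g i, z, Sieve.ofArrows_mk _ _ i, hz⟩

/-- Sections over an empty object are trivial. -/
theorem subsingleton_sections_of_isEmpty (F : EtDesc.Sh X) (Z : X.Etale) [IsEmpty Z.left] :
    Subsingleton (F.obj.obj (op Z)) := by
  refine ⟨fun a b => ?_⟩
  refine (isSheafFor_of_covers.{u, 0} F (ι := PEmpty) (fun i => i.elim) (fun i => i.elim)
    fun x => isEmptyElim x).isSeparatedFor.ext fun W w hw => ?_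
  obtain ⟨i⟩ := hw
  exact i.elim

/-- Sheaves turn disjoint covers by subobjects into products. -/
theorem bijective_sections_of_disjoint.{w} (F : EtDesc.Sh X) {W : X.Etale} {ι : Type w} (Z : ι → X.Etale)
    (g : ∀ i, Z i ⟶ W) [∀ i, Mono (g i)]
    (hcov : ∀ x : W.left, ∃ (i : ι) (z : (Z i).left), (g i).left.base z = x)
    (hdisj : ∀ i j, i ≠ j → ∀ a b, (g i).left.base a ≠ (g j).left.base b) :
    Function.Bijective (fun (s : F.obj.obj (op W)) (i : ι) => F.obj.map (g i).op s) := by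
  have h := isSheafFor_of_covers F Z g hcov
  refine ⟨fun s t hst => h.isSeparatedFor.ext fun V v hv => ?_, fun x => ?_⟩
  · obtain ⟨i⟩ := hv
    exact congrFun hst i
  · have hc : Presieve.Arrows.Compatible F.obj g x := by
      intro i j V a b hab
      by_cases hij : i = j
      · subst hij
        rw [(cancel_mono (g i)).1 hab]
      · have : IsEmpty V.left := ⟨fun v => hdisj i j hij (a.left.base v) (b.left.base v) (by
          show (a ≫ g i).left.base v = (b ≫ g j).left.base v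
          rw [hab])⟩
        have := subsingleton_sections_of_isEmpty F V
        exact Subsingleton.elim (α := F.obj.obj (op V)) _ _
    obtain ⟨s, hs, -⟩ := (Presieve.isSheafFor_arrows_iff _ _).1 h x hc
    exact ⟨s, funext hs⟩

variable (F : EtDesc.Sh X)

/-- a finite scheme over `W` representing `F` over `W` -/
structure LocalRep (W : X.Etale) where
  R : X.Etale
  r : R ⟶ W
  finite : IsFinite r.left
  sec : F.obj.obj (op R)
  univ : ∀ (V : X.Etale) (h : V ⟶ W) (s : F.obj.obj (op V)), ∃! g : V ⟶ R, g ≫ r = h ∧ F.obj.map g.op sec = s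

variable {F}

theorem res_res {A B C : X.Etale} (f : A ⟶ B) (g : B ⟶ C) (s : F.obj.obj (op C)) :
    F.obj.map (f ≫ g).op s = F.obj.map f.op (F.obj.map g.op s) := by
  rw [op_comp, Functor.map_comp]
  exact ConcreteCategory.comp_apply _ _ _

theorem etale_eq_of_cover {V R : X.Etale} (g g' : V ⟶ R)
    (h : ∀ v : V.left, ∃ O : V.left.Opens, v ∈ O ∧ O.ι ≫ g.left = O.ι ≫ g'.left) : g = g' := by
  choose O hv hO using h
  refine MorphismProperty.Over.Hom.ext ?_
  exact (V.left.openCoverOfIsOpenCover O (TopologicalSpace.IsOpenCover.mk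
    (top_le_iff.1 fun v _ => TopologicalSpace.Opens.mem_iSup.2 ⟨v, hv v⟩))).hom_ext _ _ hO

theorem exists_localRep {M : Type (u + 1)} [Finite M] {W : X.Etale}
    {φ : M ⟶ F.obj.obj (op W)} (hφ : ConstBy F φ) : Nonempty (LocalRep F W) := by
  haveI : AlgebraicGeometry.Etale W.hom := W.prop
  obtain ⟨k, ⟨eM⟩⟩ := Finite.exists_equiv_fin M
  let ι := ULift.{u} (Fin k)
  let s : (∐ fun _ : ι => W.left) ⟶ W.left := Sigma.desc fun _ => 𝟙 W.left
  haveI hs : IsFinite s := SGA1Q.isFinite_sigmaDesc _ fun _ => inferInstance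
  haveI : AlgebraicGeometry.Etale s := IsZariskiLocalAtSource.sigmaDesc fun _ => inferInstance
  let R : X.Etale := Scheme.Etale.mk (s ≫ W.hom)
  let r : R ⟶ W := MorphismProperty.Over.homMk s rfl
  let inj : ι → (W ⟶ R) := fun m =>
    MorphismProperty.Over.homMk (Sigma.ι (fun _ : ι => W.left) m) (Sigma.ι_desc_assoc _ _ _ |>.trans (Category.id_comp _))
  have hinj : ∀ m, inj m ≫ r = 𝟙 W := fun m => MorphismProperty.Over.Hom.ext (Sigma.ι_desc _ _)
  haveI : ∀ m, IsOpenImmersion (inj m).left := fun m =>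
    inferInstanceAs (IsOpenImmersion (Sigma.ι (fun _ : ι => W.left) m))
  haveI : ∀ m, Mono (inj m) := fun m => (Scheme.Etale.forget X ⋙ CategoryTheory.Over.forget X).mono_of_mono_map
    (inferInstanceAs (Mono (inj m).left))
  have hcov : ∀ x : R.left, ∃ (m : ι) (w : W.left), (inj m).left.base w = x := fun x => by
    obtain ⟨⟨m, w⟩, h⟩ := (sigmaMk fun _ : ι => W.left).surjective x
    refine ⟨m, w, ?_⟩
    show (Sigma.ι (fun _ : ι => W.left) m).base w = x
    rw [← h, sigmaMk_mk]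
  have hdis : ∀ m n, ∀ a b, (inj m).left.base a = (inj n).left.base b → m = n := fun m n a b h =>
    congrArg Sigma.fst ((sigmaι_eq_iff _ _ _ _ _).1 h)
  let c : ι → F.obj.obj (op W) := fun m => φ (eM.symm m.down)
  obtain ⟨ξ, hξ⟩ := (bijective_sections_of_disjoint F (fun _ : ι => W) inj hcov
    (fun m n hmn a b h => hmn (hdis m n a b h))).2 c
  replace hξ : ∀ m, F.obj.map (inj m).op ξ = c m := fun m => congrFun hξ m
  refine ⟨⟨R, r, hs, ξ, fun V h t => ?_⟩⟩
  have germ : ∀ {Ω : Type u} [Field Ω] [IsAlgClosed Ω] {ζ : Spec (CommRingCat.of Ω) ⟶ X}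
      (z : (Scheme.pointSmallEtale ζ).fiber.obj W),
      Function.Bijective fun m : ι => (Scheme.pointSmallEtale ζ).toPresheafFiber W z F.obj (c m) := by
    intro Ω _ _ ζ z
    refine Eq.mp (congrArg Function.Bijective (funext fun m => ?_))
      ((hφ Ω ζ z).comp (f := fun m : ι => eM.symm m.down)
        ((Equiv.ulift.trans eM.symm).bijective))
    exact ConcreteCategory.comp_apply _ _ _
  haveI := etale_left h
  let S : ι → Set V.left := fun m =>
    {v | ∃ (W' : X.Etale) (k : W' ⟶ V), F.obj.map k.op t = F.obj.map (k ≫ h).op (c m) ∧ v ∈ Set.range k.left.base}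
  have hopen : ∀ m, IsOpen (S m) := fun m => isOpen_iff_forall_mem_open.2 fun v ⟨W', k, hk, hv⟩ => by
    have := etale_left k
    exact ⟨_, fun v' hv' => ⟨W', k, hk, hv'⟩, k.left.isOpenMap.isOpen_range, hv⟩
  let O : ι → V.left.Opens := fun m => ⟨S m, hopen m⟩
  have hScov : ∀ v, ∃ m, v ∈ S m := fun v => by
    obtain ⟨Ω, _, _, ζ, z, hz⟩ := exists_algClosed_point V v
    obtain ⟨m, hm⟩ := (germ ((Scheme.pointSmallEtale ζ).fiber.map h z)).2
      ((Scheme.pointSmallEtale ζ).toPresheafFiber V z F.obj t)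
    have hm' : (Scheme.pointSmallEtale ζ).toPresheafFiber V z F.obj (F.obj.map h.op (c m)) =
        (Scheme.pointSmallEtale ζ).toPresheafFiber V z F.obj t :=
      (GrothendieckTopology.Point.toPresheafFiber_w_apply _ _ _ _ _).trans hm
    obtain ⟨W', a, z', hz', ha⟩ := ((Scheme.pointSmallEtale ζ).toPresheafFiber_eq_iff' _ _ _ _).1 hm'
    refine ⟨m, W', a, ?_, (z'.left : Spec (CommRingCat.of Ω) ⟶ W'.left).base (default : Spec (CommRingCat.of Ω)), ?_⟩
    · rw [res_res]
      exact ha.symm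
    · rw [← hz, ← hz']
      exact (Scheme.Hom.comp_apply _ _ _).symm
  have hSdis : ∀ m m' v, v ∈ S m → v ∈ S m' → m = m' := fun m m' v ⟨W₁, k, hk, y, hy⟩ ⟨W₂, k', hk', y', hy'⟩ => by
    obtain ⟨Ω, _, _, ζ, z, hz⟩ := exists_algClosed_point W₁ y
    obtain ⟨z', hz', -⟩ := exists_lift_point k' ((Scheme.pointSmallEtale ζ).fiber.map k z) y' (by
      rw [hy', ← hy, ← hz]
      exact (Scheme.Hom.comp_apply _ _ _).symm)
    refine (germ ((Scheme.pointSmallEtale ζ).fiber.map h ((Scheme.pointSmallEtale ζ).fiber.map k z))).1 ?_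
    show (Scheme.pointSmallEtale ζ).toPresheafFiber W _ F.obj (c m) =
      (Scheme.pointSmallEtale ζ).toPresheafFiber W _ F.obj (c m')
    refine Eq.trans (b := (Scheme.pointSmallEtale ζ).toPresheafFiber _ ((Scheme.pointSmallEtale ζ).fiber.map k z) F.obj t) ?_ ?_
    · rw [← GrothendieckTopology.Point.toPresheafFiber_w_apply, ← GrothendieckTopology.Point.toPresheafFiber_w_apply,
        ← GrothendieckTopology.Point.toPresheafFiber_w_apply, ← res_res]
      exact congrArg _ hk.symm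
    · rw [← hz', ← GrothendieckTopology.Point.toPresheafFiber_w_apply, ← GrothendieckTopology.Point.toPresheafFiber_w_apply,
        ← GrothendieckTopology.Point.toPresheafFiber_w_apply, ← res_res]
      exact congrArg _ hk'
  haveI : AlgebraicGeometry.Etale V.hom := V.prop
  let Z : ι → X.Etale := fun m => Scheme.Etale.mk ((O m).ι ≫ V.hom)
  let j : ∀ m, Z m ⟶ V := fun m => MorphismProperty.Over.homMk (O m).ι rfl
  haveI : IsIso (Sigma.desc fun m => (O m).ι) := by
    haveI : IsOpenImmersion (Sigma.desc fun m => (O m).ι) := isOpenImmersion_sigmaDesc _ _ fun m n hmn => by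
      rw [Function.onFun, Set.disjoint_iff_forall_ne]
      rintro _ ⟨a, rfl⟩ _ ⟨b, rfl⟩ e
      exact hmn (hSdis m n _ (show a.1 ∈ S m from a.2) (show a.1 ∈ S n from (show a.1 = b.1 from e) ▸ b.2))
    refine isIso_of_isOpenImmersion_of_opensRange_eq_top _ (top_le_iff.1 fun v _ => ?_)
    obtain ⟨m, hm⟩ := hScov v
    exact ⟨(Sigma.ι (fun m => (O m : Scheme.{u})) m).base ⟨v, hm⟩, by
      rw [← Scheme.Hom.comp_apply, Sigma.ι_desc]; rfl⟩
  let g₀ : V.left ⟶ R.left := inv (Sigma.desc fun m => (O m).ι) ≫ Sigma.desc fun m => ((j m ≫ h) ≫ inj m).left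
  have hg₀ : ∀ m, (O m).ι ≫ g₀ = ((j m ≫ h) ≫ inj m).left := fun m => by
    have e : (O m).ι ≫ inv (Sigma.desc fun m => (O m).ι) = Sigma.ι (fun m => (O m : Scheme.{u})) m := by
      rw [IsIso.comp_inv_eq, Sigma.ι_desc]
    simp only [g₀, reassoc_of% e, Sigma.ι_desc]
  have hw : g₀ ≫ R.hom = V.hom := by
    refine (V.left.openCoverOfIsOpenCover O (TopologicalSpace.IsOpenCover.mk
      (top_le_iff.1 fun v _ => TopologicalSpace.Opens.mem_iSup.2 (hScov v)))).hom_ext _ _ fun m => ?_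
    show (O m).ι ≫ g₀ ≫ R.hom = (O m).ι ≫ V.hom
    rw [reassoc_of% (hg₀ m)]
    exact MorphismProperty.Over.w _
  let g : V ⟶ R := MorphismProperty.Over.homMk g₀ hw
  have hjg : ∀ m, j m ≫ g = (j m ≫ h) ≫ inj m := fun m => MorphismProperty.Over.Hom.ext (hg₀ m)
  refine ⟨g, ⟨etale_eq_of_cover _ _ fun v => ?_, ?_⟩, ?_⟩
  · obtain ⟨m, hm⟩ := hScov v
    refine ⟨O m, hm, ?_⟩
    exact congrArg (fun a : Z m ⟶ W => a.left) (show j m ≫ g ≫ r = j m ≫ h by
      rw [← Category.assoc, hjg, Category.assoc _ (inj m), hinj, Category.comp_id])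
  · refine (isSheafFor_of_covers F (fun m : {m : ι // True} => Z m.1) (fun m => j m.1)
      (fun v => let ⟨m, hm⟩ := hScov v; ⟨⟨m, trivial⟩, ⟨v, hm⟩, rfl⟩)).isSeparatedFor.ext fun T a ha => ?_
    obtain ⟨⟨m, -⟩⟩ := ha
    show F.obj.map (j m).op (F.obj.map g.op ξ) = F.obj.map (j m).op t
    rw [← res_res, hjg, res_res, hξ]
    refine (isSheafFor_of_covers F (W := Z m)
      (fun w : {p : Σ W' : X.Etale, (W' ⟶ Z m) // F.obj.map (p.2 ≫ j m).op t = F.obj.map (p.2 ≫ j m ≫ h).op (c m)} => w.1.1)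
      (fun w => w.1.2) fun x => ?_).isSeparatedFor.ext fun T a ha => ?_
    · obtain ⟨W', k, hk, y, hy⟩ : (O m).ι.base x ∈ S m := x.2
      haveI : AlgebraicGeometry.Etale W'.hom := W'.prop
      let P : X.Etale := Scheme.Etale.mk ((k.left ⁻¹ᵁ O m).ι ≫ W'.hom)
      let p₁ : P ⟶ W' := MorphismProperty.Over.homMk (k.left ⁻¹ᵁ O m).ι rfl
      let p₂ : P ⟶ Z m := MorphismProperty.Over.homMk (k.left ∣_ O m) (by
        show (k.left ∣_ O m) ≫ (O m).ι ≫ V.hom = (k.left ⁻¹ᵁ O m).ι ≫ W'.hom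
        rw [morphismRestrict_ι_assoc, MorphismProperty.Over.w k])
      have hp : p₂ ≫ j m = p₁ ≫ k := MorphismProperty.Over.Hom.ext (morphismRestrict_ι _ _)
      have hy' : y ∈ k.left ⁻¹ᵁ O m := show k.left.base y ∈ O m from hy ▸ x.2
      refine ⟨⟨⟨P, p₂⟩, ?_⟩, ⟨y, hy'⟩, (O m).ι.isOpenEmbedding.injective ?_⟩
      · rw [← Category.assoc, hp, Category.assoc, res_res p₁ k, hk, ← res_res]
      · show (O m).ι.base ((k.left ∣_ O m).base ⟨y, hy'⟩) = (O m).ι.base x
        rw [← Scheme.Hom.comp_apply, morphismRestrict_ι, Scheme.Hom.comp_apply]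
        exact hy
    · obtain ⟨⟨⟨W', k⟩, hk⟩⟩ := ha
      show F.obj.map k.op (F.obj.map (j m ≫ h).op (c m)) = F.obj.map k.op (F.obj.map (j m).op t)
      rw [← res_res, ← res_res]
      exact hk.symm
  · rintro g' ⟨hg'r, hg't⟩
    refine etale_eq_of_cover _ _ fun v => ?_
    obtain ⟨n, w, hw'⟩ := hcov (g'.left.base v)
    obtain ⟨m, hm⟩ := hScov v
    let P : V.left.Opens := g'.left ⁻¹ᵁ (inj n).left.opensRange ⊓ O m
    refine ⟨P, ⟨⟨w, hw'⟩, hm⟩, ?_⟩
    let Q : X.Etale := Scheme.Etale.mk (P.ι ≫ V.hom)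
    let q : Q ⟶ V := MorphismProperty.Over.homMk P.ι rfl
    have e₁ : ∃ l : Q ⟶ W, l ≫ inj n = q ≫ g' := by
      refine ⟨MorphismProperty.Over.homMk (IsOpenImmersion.lift (inj n).left (P.ι ≫ g'.left) ?_) ?_, ?_⟩
      · rintro _ ⟨y, rfl⟩
        exact y.2.1
      · show IsOpenImmersion.lift (inj n).left (P.ι ≫ g'.left) _ ≫ W.hom = P.ι ≫ V.hom
        rw [← MorphismProperty.Over.w (inj n), IsOpenImmersion.lift_fac_assoc, Category.assoc, MorphismProperty.Over.w g']
      · exact MorphismProperty.Over.Hom.ext (IsOpenImmersion.lift_fac _ _ _)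
    obtain ⟨l, hl⟩ := e₁
    have hlh : l = q ≫ h := by
      rw [← hg'r, ← Category.assoc, ← hl, Category.assoc, hinj, Category.comp_id]
    have hle : P ≤ O m := inf_le_right
    let i' : Q ⟶ Z m := MorphismProperty.Over.homMk (V.left.homOfLE hle) (by
      show V.left.homOfLE hle ≫ (O m).ι ≫ V.hom = P.ι ≫ V.hom
      rw [Scheme.homOfLE_ι_assoc])
    have hi : i' ≫ j m = q := MorphismProperty.Over.Hom.ext (Scheme.homOfLE_ι _ hle)
    have hnm : n = m := by
      obtain ⟨Ω, _, _, ζ, z, hz⟩ := exists_algClosed_point Q (⟨v, ⟨w, hw'⟩, hm⟩ : (P : Scheme.{u}))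
      obtain ⟨W', k, hk, y, hy⟩ := hm
      obtain ⟨z', hz', -⟩ := exists_lift_point k ((Scheme.pointSmallEtale ζ).fiber.map q z) y (by
        rw [hy]
        refine Eq.trans ?_ (Scheme.Hom.comp_apply _ _ _).symm
        rw [hz]
        rfl)
      refine (germ ((Scheme.pointSmallEtale ζ).fiber.map h ((Scheme.pointSmallEtale ζ).fiber.map q z))).1 ?_
      show (Scheme.pointSmallEtale ζ).toPresheafFiber W _ F.obj (c n) =
        (Scheme.pointSmallEtale ζ).toPresheafFiber W _ F.obj (c m)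
      refine Eq.trans (b := (Scheme.pointSmallEtale ζ).toPresheafFiber _ ((Scheme.pointSmallEtale ζ).fiber.map q z) F.obj t) ?_ ?_
      · rw [← GrothendieckTopology.Point.toPresheafFiber_w_apply, ← GrothendieckTopology.Point.toPresheafFiber_w_apply,
          ← GrothendieckTopology.Point.toPresheafFiber_w_apply, ← res_res, ← hg't, ← res_res, ← hlh, ← hl, res_res, hξ]
      · rw [← hz', ← GrothendieckTopology.Point.toPresheafFiber_w_apply, ← GrothendieckTopology.Point.toPresheafFiber_w_apply,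
          ← GrothendieckTopology.Point.toPresheafFiber_w_apply, ← res_res]
        exact congrArg _ hk
    subst hnm
    refine congrArg (fun a : Q ⟶ R => a.left) (show q ≫ g' = q ≫ g from ?_)
    rw [← hl, ← hi, Category.assoc, hjg, hlh, ← hi]
    simp only [Category.assoc]

theorem nonempty_constSh_over (X : Scheme.{u}) (U : X.Etale) (M : Type (u + 1)) :
    Nonempty ((CohProp.constSh X M).over U ≅
      (constantSheaf (X.smallEtaleTopology.over U) (Type (u + 1))).obj M) := by
  let J := X.smallEtaleTopology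
  let P : X.Etaleᵒᵖ ⥤ Type (u + 1) := (Functor.const _).obj M
  refine nonempty_restr_iso_const (φ := (CategoryTheory.toSheafify J P).app (op U)) fun Ω _ _ ξ z => ?_
  let Φ := Scheme.pointSmallEtale ξ
  have hi : IsIso (Φ.presheafFiber.map (CategoryTheory.toSheafify J P)) :=
    Φ.W_isInvertedBy_presheafFiber _ (J.W_toSheafify P)
  have hP : Function.Bijective (Φ.toPresheafFiber U z P) := by
    refine ⟨fun m m' h => ?_, fun p => ?_⟩
    · obtain ⟨V, g, v, -, hg⟩ := (Φ.toPresheafFiber_eq_iff' U z _ _).1 h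
      exact hg
    · obtain ⟨V, v, s, rfl⟩ := Φ.toPresheafFiber_jointly_surjective (P := P) p
      obtain ⟨⟨T, t⟩, ⟨a₀, ha₀⟩, ⟨b₀, hb₀⟩, -⟩ := IsCofilteredOrEmpty.cone_objs
        (Φ.fiber.elementsMk V v) (Φ.fiber.elementsMk U z)
      refine ⟨s, ?_⟩
      obtain ⟨a, ha⟩ : ∃ a : T ⟶ V, Φ.fiber.map a t = v := ⟨a₀, ha₀⟩
      obtain ⟨b, hb⟩ : ∃ b : T ⟶ U, Φ.fiber.map b t = z := ⟨b₀, hb₀⟩
      rw [← ha, ← hb, ← Φ.toPresheafFiber_w_apply, ← Φ.toPresheafFiber_w_apply]
      rfl
  refine Eq.mp (congrArg Function.Bijective (funext fun m => ?_))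
    (((ConcreteCategory.isIso_iff_bijective _).1 hi).comp hP)
  exact (ConcreteCategory.comp_apply _ _ _).symm.trans
    (ConcreteCategory.congr_hom (Φ.toPresheafFiber_naturality (CategoryTheory.toSheafify J P) U z) m)

end Groth.Agent.EtRepSet
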